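import Cfsg.Agent.Known.SLTwo.Chars.SLFacts
import Cfsg.Agent.Known.SLTwo.Chars.SLTorusTable
import Cfsg.Agent.Known.SLTwo.Torus
import Cfsg.Agent.Chars.IrrTools
import Cfsg.Prelude.Def_DegreeGraph

/-! Degree sets of groups between `SL₂` and `PSL₂`. -/

set_option autoImplicit false
set_option linter.unusedSectionVars false

namespace Cfsg.Lib.SLTwoDegrees

open Cfsg.Lib.Chars Cfsg.Lib.GLTwo Cfsg.Lib.GLTwo.SCh Matrix
open scoped MatrixGroups

theorem charDegrees_subset {A B : Type*} [Group A] [Finite A] [Group B] [Finite B] (f : A →* B)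
    (hf : Function.Surjective f) : Cfsg.charDegrees B ⊆ Cfsg.charDegrees A := by
  rintro d ⟨χ, rfl⟩
  refine ⟨⟨_, IsIrrCharacter.comp_surjective χ.2 f hf⟩, ?_⟩
  simp [Cfsg.charDegree]

variable {F : Type*} [Field F] [Fintype F] [DecidableEq F]

/-- Degrees of irreducible characters of `SL₂`. -/
theorem sl_degrees {d : ℕ} (hd : d ∈ Cfsg.charDegrees (Matrix.SpecialLinearGroup (Fin 2) F)) :
    d = 1 ∨ d = Fintype.card F ∨ d = Fintype.card F + 1 ∨ d = Fintype.card F - 1 ∨
      (Odd (Fintype.card F) ∧ (d = (Fintype.card F + 1) / 2 ∨ d = (Fintype.card F - 1) / 2)) := by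
  classical
  obtain ⟨χ, rfl⟩ := hd
  have h1 : ((χ : SL(2, F) → ℂ) 1) = (Cfsg.charDegree (χ : SL(2, F) → ℂ) : ℂ) := irr_apply_one_eq_deg χ
  have key : ∀ e : ℕ, (χ : SL(2, F) → ℂ) 1 = (e : ℂ) → Cfsg.charDegree (χ : SL(2, F) → ℂ) = e :=
    fun e he => Nat.cast_injective (R := ℂ) (h1.symm.trans he)
  rcases cases_irr χ.2 with h | h | ⟨α, -, h⟩ | ⟨ho, hne⟩ | hc
  · exact .inl (key 1 (by rw [h]; simp))
  · exact .inr (.inl (key _ (by rw [h]; exact St_one)))
  · exact .inr (.inr (.inl (key _ (by rw [h, PS_one]; push_cast; ring))))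
  · obtain ⟨ν, hν⟩ : ∃ ν : Fˣ, quadraticChar F (ν : F) = -1 := by
      obtain ⟨a, ha⟩ := quadraticChar_exists_neg_one (F := F) (by
        intro h2
        haveI : CharP F 2 := h2 ▸ ringChar.charP F
        exact (Nat.not_even_iff_odd.2 ho) even_of_two)
      exact ⟨Units.mk0 a (by rintro rfl; simp at ha), ha⟩
    obtain ⟨η₁, η₂, i₁, i₂, -, hadd, -, -, hp'⟩ := halves ho hν
    rw [hadd, classInner_add_left, classInner_irrChar i₁ χ.2, classInner_irrChar i₂ χ.2] at hne
    by_cases e1 : η₁ = (χ : SL(2, F) → ℂ)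
    · exact .inr (.inr (.inr (.inr ⟨ho, .inl (key _ (e1 ▸ (hp' η₁ (.inl rfl)).1))⟩)))
    · by_cases e2 : η₂ = (χ : SL(2, F) → ℂ)
      · exact .inr (.inr (.inr (.inr ⟨ho, .inl (key _ (e2 ▸ (hp' η₂ (.inr rfl)).1))⟩)))
      · rw [if_neg e1, if_neg e2, add_zero] at hne
        exact absurd rfl hne
  · rcases Nat.even_or_odd (Fintype.card F) with he | ho
    · exact .inr (.inr (.inr (.inl (key _ ((table_even he).1 χ χ.2 hc).1))))
    · obtain ⟨ν, hν⟩ : ∃ ν : Fˣ, quadraticChar F (ν : F) = -1 := by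
        obtain ⟨a, ha⟩ := quadraticChar_exists_neg_one (F := F) (by
          intro h2
          haveI : CharP F 2 := h2 ▸ ringChar.charP F
          exact (Nat.not_even_iff_odd.2 ho) even_of_two)
        exact ⟨Units.mk0 a (by rintro rfl; simp at ha), ha⟩
      rcases (table_odd ho hν).1 χ χ.2 hc with ⟨h, -⟩ | ⟨h, -⟩
      · exact .inr (.inr (.inr (.inl (key _ h))))
      · exact .inr (.inr (.inr (.inr ⟨ho, .inr (key _ h)⟩)))

/-- A character of `SL₂` that is constant on the centre gives a degree of `PSL₂`. -/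
theorem psl_degree_of_center {χ : SL(2, F) → ℂ} (hχ : Cfsg.IsIrrCharacter SL(2, F) χ) {d : ℕ}
    (hd : χ 1 = (d : ℂ)) (hz : ∀ z ∈ Subgroup.center SL(2, F), χ z = χ 1) :
    d ∈ Cfsg.charDegrees (Matrix.ProjectiveSpecialLinearGroup (Fin 2) F) := by
  classical
  let π : Matrix.SpecialLinearGroup (Fin 2) F →* Matrix.ProjectiveSpecialLinearGroup (Fin 2) F :=
    QuotientGroup.mk' _
  have hπ : Function.Surjective π := QuotientGroup.mk'_surjective _
  obtain ⟨b, hbc, hb⟩ := exists_factor π hπ (isCharacter_of_irr hχ) (fun k hk => hz k (by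
    rw [MonoidHom.mem_ker] at hk
    exact (QuotientGroup.eq_one_iff k).1 hk))
  refine ⟨⟨b, irr_of_comp_irr hbc π (hb ▸ hχ)⟩, ?_⟩
  have h1 : b 1 = (d : ℂ) := by rw [← map_one π, ← congrFun hb 1, hd]
  simp [Cfsg.charDegree, h1]

theorem PS_center (α : MulChar F ℂ) {z : SL(2, F)} (hz : z ∈ Subgroup.center SL(2, F))
    (h : ∀ r : F, r ^ 2 = 1 → α r = 1) : PS α z = PS α 1 := by
  obtain ⟨r, hr2, hr⟩ := Matrix.SpecialLinearGroup.mem_center_iff.1 hz
  have hr2' : r ^ 2 = 1 := by simpa using hr2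
  rw [PS_one, PS_eq_sum, Finset.sum_congr rfl (g := fun _ => (1 : ℂ)) (fun o _ => ?_)]
  · simp [Fintype.card_option]
  · rcases o with _ | c
    · rw [if_pos (by rw [← hr]; simp [colAt, Matrix.scalar_apply]), ← hr]
      simpa [colAt, Matrix.scalar_apply] using h r hr2'
    · rw [if_pos (by rw [← hr]; simp [colAt, Matrix.scalar_apply]; ring), ← hr]
      simpa [colAt, Matrix.scalar_apply] using h r hr2'

theorem one_mem_psl : 1 ∈ Cfsg.charDegrees (Matrix.ProjectiveSpecialLinearGroup (Fin 2) F) :=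
  psl_degree_of_center isIrrCharacter_one (by simp) fun _ _ => rfl

theorem card_mem_psl :
    Fintype.card F ∈ Cfsg.charDegrees (Matrix.ProjectiveSpecialLinearGroup (Fin 2) F) :=
  psl_degree_of_center isIrr_St St_one fun z hz => by
    simp only [St, Pi.sub_apply]
    rw [PS_center 1 hz (fun r hr => MulChar.one_apply (IsUnit.of_pow_eq_one hr two_ne_zero))]

theorem succ_mem_psl (hq : 4 ≤ Fintype.card F) (h5 : Fintype.card F ≠ 5) :
    Fintype.card F + 1 ∈ Cfsg.charDegrees (Matrix.ProjectiveSpecialLinearGroup (Fin 2) F) := by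
  classical
  obtain ⟨β, hβ⟩ := MulChar.exists_mulChar_orderOf (F := F) (R := ℂ)
    (n := Fintype.card F - 1) dvd_rfl (Complex.isPrimitiveRoot_exp _ (by omega))
  have hα : β ^ 2 ≠ (β ^ 2)⁻¹ := by
    intro h
    have h4 : β ^ 4 = 1 := by
      rw [show β ^ 4 = β ^ 2 * β ^ 2 by rw [← pow_add]]
      nth_rw 2 [h]
      rw [mul_inv_cancel]
    have h1 := orderOf_dvd_of_pow_eq_one h4
    rw [hβ] at h1
    have h2 := Nat.le_of_dvd (by norm_num) h1
    rcases (show Fintype.card F - 1 = 3 ∨ Fintype.card F - 1 = 4 by omega) with h3 | h3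
    · rw [h3] at h1; norm_num at h1
    · omega
  refine psl_degree_of_center (isIrr_PS hα) (by rw [PS_one]; push_cast; ring) fun z hz =>
    PS_center _ hz fun r hr => ?_
  have hu : IsUnit r := IsUnit.of_pow_eq_one hr two_ne_zero
  rw [sq, MulChar.mul_apply, ← map_mul, ← sq, hr, map_one]

theorem pred_mem_psl_odd (ho : Odd (Fintype.card F)) (hq : 5 ≤ Fintype.card F) :
    Fintype.card F - 1 ∈ Cfsg.charDegrees (Matrix.ProjectiveSpecialLinearGroup (Fin 2) F) := by
  classical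
  obtain ⟨s, hs⟩ := exists_orderOf_add_one (F := F)
  let C : Subgroup SL(2, F) := Subgroup.zpowers s
  have hcard : Nat.card C = Fintype.card F + 1 := by rw [Nat.card_zpowers, hs]
  have hC : IsCyclic C := inferInstance
  obtain ⟨φ, hφ⟩ : ∃ φ : C →* ℂˣ, orderOf φ = Fintype.card F + 1 := by
    letI : CommGroup C := IsCyclic.commGroup
    obtain ⟨e⟩ := CommGroup.monoidHom_mulEquiv_of_hasEnoughRootsOfUnity C ℂ
    exact ⟨e.symm ⟨s, Subgroup.mem_zpowers s⟩, by
      rw [MulEquiv.orderOf_eq, Subgroup.orderOf_mk, hs]⟩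
  have hθ : ∃ c : C, (φ ^ 2) c ^ 2 ≠ 1 := by
    by_contra h
    push Not at h
    have h4 : φ ^ 4 = 1 := MonoidHom.ext fun c => by
      have := h c
      rw [MonoidHom.pow_apply, ← pow_mul] at this
      rw [MonoidHom.pow_apply, this, MonoidHom.one_apply]
    have h1 := Nat.le_of_dvd (by norm_num) (orderOf_dvd_of_pow_eq_one h4)
    omega
  obtain ⟨χ, hχ, hd, -, hz, -⟩ := (deligne_lusztig ho hC hcard).1 (φ ^ 2) hθ
  refine psl_degree_of_center hχ (by rw [hd, cast_pred]) fun z hzc => ?_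
  have hzC : z ∈ C := by
    rcases center_cases.1 hzc with rfl | rfl
    · exact one_mem _
    · exact neg_one_mem ho hcard
  have h := hz ⟨z, hzC⟩ hzc 1
  rw [mul_one] at h
  rw [h]
  have h2 : (⟨z, hzC⟩ : C) ^ 2 = 1 := by
    apply Subtype.ext
    show z ^ 2 = 1
    rcases center_cases.1 hzc with rfl | rfl <;> simp
  rw [MonoidHom.pow_apply, ← map_pow, h2, map_one, Units.val_one, one_mul]

theorem center_eq_bot_even [CharP F 2] {z : SL(2, F)} (hz : z ∈ Subgroup.center SL(2, F)) : z = 1 := by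
  obtain ⟨r, hr2, hr⟩ := Matrix.SpecialLinearGroup.mem_center_iff.1 hz
  have h1 : (r - 1) ^ 2 = 0 := by
    have : (2 : F) = 0 := CharTwo.two_eq_zero
    have hr2' : r ^ 2 = 1 := by simpa using hr2
    linear_combination hr2' - (r - 1) * this
  have hr1 : r = 1 := sub_eq_zero.1 (pow_eq_zero_iff two_ne_zero |>.1 h1)
  apply Subtype.ext
  rw [← hr, hr1]
  simp

theorem pred_mem_psl_even [CharP F 2] (hq : 4 ≤ Fintype.card F) :
    Fintype.card F - 1 ∈ Cfsg.charDegrees (Matrix.ProjectiveSpecialLinearGroup (Fin 2) F) := by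
  classical
  have h := (table_even (F := F) even_of_two).2.1
  have : Nonempty {χ : Cfsg.IrrCharacter SL(2, F) //
      IsCusp (χ : SL(2, F) → ℂ) ∧ deg (χ : SL(2, F) → ℂ) = Fintype.card F - 1} := by
    by_contra hne
    rw [not_nonempty_iff] at hne
    simp at h
    omega
  obtain ⟨χ, -, hd⟩ := this
  exact psl_degree_of_center χ.2 (by rw [irr_apply_one_eq_deg, hd])
    fun z hz => by rw [center_eq_bot_even hz]

end Cfsg.Lib.SLTwoDegrees
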